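import Cfsg.Agent.H612.K4.RankOne
import Cfsg.Agent.H705.ComPSU
import Cfsg.Agent.H740.K4.Equiv
import Cfsg.Agent.H742.TwoC

/-!
# `Good5` for `Sz(q)` and `PSU₃(q)`, `q` even (helper612, TEAM K4)

* `good5_of_data` : five induced characters;
* `good5_psu3`, `good5_suzuki`.
-/

set_option autoImplicit false

open Cfsg

namespace Cfsg.Agent.H612.K4

open Cfsg.Agent.LieRecognition.RankOneAbstract Cfsg.Agent.H601.K4 Cfsg.Agent.H967.K4

universe u

section general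

variable {G : Type u} [Group G] {B U : Subgroup G} {w : G}

/-- the Borel subgroup is generated by `U` and the torus -/
theorem gen_of_two (D : Data B U w) {t₀ : G} (hfin : IsOfFinOrder t₀)
    (hgen : ∀ t ∈ B, w⁻¹ * t * w ∈ B → t ∈ Subgroup.zpowers t₀) :
    ∀ b ∈ B, ∃ u ∈ U, ∃ k : ℕ, b = u * t₀ ^ k := by
  intro b hb
  have h1 : b * w ∉ B := fun h => D.w_not_mem ((B.mul_mem_cancel_left hb).1 h)
  obtain ⟨s, hs, h2⟩ := D.bruhat _ h1
  have h3 : w⁻¹ * (s⁻¹ * b) * w ∈ B := by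
    have e : (s * w)⁻¹ * (b * w) = w⁻¹ * (s⁻¹ * b) * w := by group
    rwa [e] at h2
  have h4 := hgen _ (B.mul_mem (B.inv_mem (D.le hs)) hb) h3
  obtain ⟨k, hk⟩ := (Submonoid.mem_powers_iff _ _).1 ((hfin.mem_powers_iff_mem_zpowers).2 h4)
  refine ⟨s, hs, k, ?_⟩
  rw [hk]
  group

/-- elements of prime order outside the Borel subgroup -/
theorem not_mem_of_prime (D : Data B U w) (hU : IsPGroup 2 U) {t₀ : G} (ht : t₀ ∈ B)
    (hgen : ∀ b ∈ B, ∃ u ∈ U, ∃ k : ℕ, b = u * t₀ ^ k) {p : ℕ} (hp : p.Prime) (hp2 : p ≠ 2)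
    (hpn : ¬ p ∣ orderOf t₀) {x : G} (hx : orderOf x = p) : x ∉ B := by
  intro hxB
  let K : Subgroup B := U.subgroupOf B
  have hK : K.Normal := by
    constructor
    intro n hn g
    rw [Subgroup.mem_subgroupOf] at hn ⊢
    exact D.norm g g.2 n hn
  obtain ⟨u, hu, k, hk⟩ := hgen x hxB
  have h1 : QuotientGroup.mk' K ⟨x, hxB⟩ = QuotientGroup.mk' K ⟨t₀, ht⟩ ^ k := by
    have h2 : (⟨x, hxB⟩ : B) = ⟨u, D.le hu⟩ * ⟨t₀, ht⟩ ^ k := Subtype.ext hk
    have h3 : QuotientGroup.mk' K ⟨u, D.le hu⟩ = 1 := by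
      rw [QuotientGroup.mk'_apply, QuotientGroup.eq_one_iff, Subgroup.mem_subgroupOf]
      exact hu
    rw [h2, map_mul, h3, one_mul, map_pow]
  have h2 : QuotientGroup.mk' K (⟨x, hxB⟩ ^ orderOf t₀) = 1 := by
    have h3 : (⟨t₀, ht⟩ : B) ^ orderOf t₀ = 1 := Subtype.ext (pow_orderOf_eq_one t₀)
    rw [map_pow, h1, ← pow_mul, mul_comm, pow_mul, ← map_pow, h3, map_one, one_pow]
  rw [QuotientGroup.mk'_apply, QuotientGroup.eq_one_iff, Subgroup.mem_subgroupOf] at h2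
  have h3 : x ^ orderOf t₀ ∈ U := h2
  obtain ⟨i, hi⟩ := hU ⟨_, h3⟩
  have h4 : (x ^ orderOf t₀) ^ 2 ^ i = 1 := congrArg Subtype.val hi
  rw [← pow_mul] at h4
  have h5 := orderOf_dvd_of_pow_eq_one h4
  rw [hx] at h5
  rcases hp.dvd_mul.1 h5 with h6 | h6
  · exact hpn h6
  · exact hp2 ((Nat.prime_dvd_prime_iff_eq hp Nat.prime_two).1 (hp.dvd_of_dvd_pow h6))

/-- Four characters: the trivial one and three induced ones; the fifth by parity at an element of prime order. -/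
theorem good5_of_three [Finite G] (hT : H601.OddDeg.TwoC G) (hev : Even (Nat.card G)) {χ : Fin 3 → G → ℂ}
    (hinj : Function.Injective χ) (hχ : ∀ i, OddIrr (χ i) ∧ SF (χ i)) {x : G} (hx : Odd (orderOf x))
    (h0 : ∀ i, χ i x = 0) : Good5 G := by
  refine H740.K4.good5_of_four hev (χ := Fin.cons (fun _ => 1) χ) (t := x) (z := Fin.cons 1 fun _ => 0) ?_ ?_ hx ?_ ?_
  · rw [Fin.cons_injective_iff]
    constructor
    · rintro ⟨i, hi⟩
      have h1 := h0 i
      rw [hi] at h1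
      exact one_ne_zero h1
    · exact hinj
  · intro i
    refine Fin.cases ?_ (fun i => ?_) i
    · exact H740.K4.good_one'
    · rw [Fin.cons_succ]
      exact (hχ i).2.good (hχ i).1 hT
  · intro i
    refine Fin.cases ?_ (fun i => ?_) i
    · rw [Fin.cons_zero, Fin.cons_zero]
      simp
    · rw [Fin.cons_succ, Fin.cons_succ, Int.cast_zero]
      exact h0 i
  · rw [Fin.sum_univ_succ]
    simp only [Fin.cons_zero, Fin.cons_succ, Finset.sum_const_zero, add_zero]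
    exact odd_one

/-- the representatives `1, 2, 3` -/
theorem sz_cast {n : ℕ} (hn : 7 ≤ n) (a b : Fin 3) : a ≠ b → (((a : ℕ) + 1 : ℕ) : ZMod n) ≠ ((b : ℕ) + 1 : ℕ) := by
  intro hab h
  have h1 : (a : ℕ) ≠ b := fun h => hab (Fin.ext h)
  have ha := a.2
  have hb := b.2
  rw [ZMod.natCast_eq_natCast_iff] at h
  have := Nat.ModEq.eq_of_lt_of_lt h (by omega) (by omega)
  omega

theorem sz_cast' {n : ℕ} (hn : 7 ≤ n) (a b : Fin 3) :
    (((a : ℕ) + 1 : ℕ) : ZMod n) * ((n - 1 : ℕ) : ZMod n) ≠ ((b : ℕ) + 1 : ℕ) := by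
  intro h
  have ha := a.2
  have hb := b.2
  rw [← Nat.cast_mul, ZMod.natCast_eq_natCast_iff] at h
  obtain ⟨m, rfl⟩ : ∃ m, n = m + 1 := ⟨n - 1, by omega⟩
  have h3 : ((a : ℕ) + 1) * (m + 1 - 1) + ((a : ℕ) + 1) = ((a : ℕ) + 1) * (m + 1) := by
    rw [Nat.add_sub_cancel]
    ring
  have h4 := h.add_right ((a : ℕ) + 1)
  rw [h3] at h4
  have h5 : m + 1 ∣ (b : ℕ) + 1 + ((a : ℕ) + 1) :=
    (Nat.modEq_zero_iff_dvd).1 (h4.symm.trans ((Nat.modEq_zero_iff_dvd).2 (dvd_mul_left _ _)))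
  have := Nat.le_of_dvd (by omega) h5
  omega

end general

section sz

open Cfsg.Agent.H255.RankOne Cfsg.Agent.LieRecognition.SzMatrix Cfsg.Agent.SuzukiRankOne

theorem good5_sz {F : Type} [Field F] [Finite F] {θ : F →+* F} {e : ℕ} (H : Good F θ e) (h2 : 8 ≤ Nat.card F)
    (h5 : 5 ∣ Nat.card F ^ 2 + 1) (hT : H601.OddDeg.TwoC ↥(Cfsg.Lie.Sz F e)) : Good5 ↥(Cfsg.Lie.Sz F e) := by
  classical
  have R := H255.RoSz.ro H
  obtain ⟨P₀, hP₀⟩ := R.syl
  have hU : H.unip ≠ ⊥ := by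
    intro h
    have h1 : H.u 1 0 ∈ H.unip := H.u_mem_unip _ _
    rw [h, Subgroup.mem_bot, ← H.u_zero] at h1
    exact one_ne_zero (H.u_inj h1).1
  have hUp : IsPGroup 2 H.unip := by
    rw [← hP₀]
    exact P₀.isPGroup'
  obtain ⟨k₀, hk₀⟩ := IsCyclic.exists_generator (α := Fˣ)
  have hord : orderOf (H.d k₀) = Nat.card F - 1 := by
    have h1 : orderOf (SzModel.diag H k₀) = orderOf k₀ :=
      orderOf_injective (SzModel.diag H) (fun k l h => H.d_inj h) k₀
    have h3 : orderOf (H.d k₀) = orderOf k₀ := h1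
    rw [h3, orderOf_eq_card_of_forall_mem_zpowers hk₀, Nat.card_units]
  have hev : Even (Nat.card F) := SzModel.even_card_of_two H.two
  set n := Nat.card F - 1 with hn
  have hn7 : 7 ≤ n := by omega
  have hnodd : Odd n := Nat.Even.sub_odd (by omega) hev odd_one
  have hw : H.w * H.d k₀ * (H.w)⁻¹ = H.d k₀ ^ (n - 1) := by
    rw [H.w_mul_d, mul_inv_cancel_right]
    have h1 : H.d k₀ ^ (n - 1) * H.d k₀ = 1 := by
      rw [← pow_succ, Nat.sub_add_cancel (by omega), ← hord, pow_orderOf_eq_one]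
    have h2 : H.d k₀⁻¹ * H.d k₀ = 1 := by
      rw [H.d_mul, inv_mul_cancel, H.d_one]
    exact mul_right_cancel (h2.trans h1.symm)
  have hgen := gen_of_two R.data (t₀ := H.d k₀) (isOfFinOrder_of_finite _) (by
    intro t ht htw
    obtain ⟨k, rfl⟩ := H255.RoSz.mem_two_iff H ht htw
    obtain ⟨j, rfl⟩ := Subgroup.mem_zpowers_iff.1 (hk₀ k)
    exact Subgroup.mem_zpowers_iff.2 ⟨j, (map_zpow (SzModel.diag H) k₀ j).symm⟩)
  obtain ⟨χ, hinj, hχ⟩ := exists_family R.data hUp hU (H.d_mem_borel k₀) hw hgen hord hnodd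
    (ι := Fin 3) (j := fun i => (i : ℕ) + 1) (sz_cast hn7) (sz_cast' hn7)
  have hidx : H.borel.index = Nat.card F ^ 2 + 1 := by rw [R.data.index, H.card_unip]
  obtain ⟨x, hx⟩ := exists_prime_orderOf_dvd_card' (G := ↥(Cfsg.Lie.Sz F e)) (hp := ⟨Nat.prime_five⟩) 5 (by
    refine h5.trans ?_
    rw [← hidx]
    exact H.borel.index_dvd_card)
  have h5n : ¬ 5 ∣ orderOf (H.d k₀) := by
    rw [hord, hn]
    intro h
    have h1 : Nat.card F ≡ 1 [MOD 5] := ((Nat.modEq_iff_dvd' (by omega)).2 h).symm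
    have h2 : Nat.card F ^ 2 + 1 ≡ 1 ^ 2 + 1 [MOD 5] := (h1.pow 2).add_right 1
    have h3 := h2.symm.trans ((Nat.modEq_zero_iff_dvd).2 h5)
    exact absurd h3 (by decide)
  refine good5_of_three hT ?_ hinj (fun i => ⟨(hχ i).1, (hχ i).2.1⟩) (x := x) (by rw [hx]; decide) fun i => ?_
  · have h1 : 2 ∣ Nat.card ↥(Cfsg.Lie.Sz F e) := by
      refine Dvd.dvd.trans ?_ (Subgroup.card_subgroup_dvd_card H.unip)
      rw [H.card_unip]
      exact (even_iff_two_dvd.1 hev).trans (dvd_pow_self _ (by norm_num))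
    exact even_iff_two_dvd.2 h1
  · refine (hχ i).2.2.1 x fun g => ?_
    refine not_mem_of_prime R.data hUp (H.d_mem_borel k₀) hgen Nat.prime_five (by norm_num) h5n ?_
    have h1 : g⁻¹ * x * g = MulAut.conj g⁻¹ x := by
      rw [MulAut.conj_apply, inv_inv]
    rw [h1, MulEquiv.orderOf_eq, hx]

/-- **`Sz(q)`** -/
theorem good5_suzuki {S : Type u} [Group S] [Finite S] [IsSimpleGroup S] (h : Cfsg.Lie.IsoSuzuki S) : Good5 S := by
  obtain ⟨F, i1, i2, m, hm, hF, ⟨e⟩⟩ := h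
  have H := good hF
  have hs' : IsSimpleGroup ↥(Cfsg.Lie.Sz F (2 ^ (m + 1))) := e.symm.isSimpleGroup
  have hT : H601.OddDeg.TwoC ↥(Cfsg.Lie.Sz F (2 ^ (m + 1))) := H742.TwoC.twoC_charTwo (by
    unfold IsLieTypeChar
    exact Or.inr (Or.inr (Or.inr (Or.inr (Or.inr (Or.inr (Or.inr (Or.inr (Or.inl
      ⟨rfl, F, i1, i2, m, hm, hF, ⟨MulEquiv.refl _⟩⟩)))))))))
  refine H740.K4.good5_of_equiv e (good5_sz H ?_ ?_ hT)
  · rw [Nat.card_eq_fintype_card, hF]
    calc 8 = 2 ^ 3 := by norm_num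
      _ ≤ 2 ^ (2 * m + 1) := Nat.pow_le_pow_right (by norm_num) (by omega)
  · rw [Nat.card_eq_fintype_card, hF]
    have h1 : (2 ^ (2 * m + 1)) ^ 2 + 1 = 4 ^ (2 * m + 1) + 1 := by
      rw [← pow_mul, mul_comm, pow_mul]
      norm_num
    rw [h1]
    have h2 : (4 : ℕ) + 1 ∣ 4 ^ (2 * m + 1) + 1 ^ (2 * m + 1) := Odd.nat_add_dvd_pow_add_pow 4 1 ⟨m, rfl⟩
    rwa [one_pow] at h2

end sz

section psu

open Cfsg.Agent.H705.PSU Cfsg.Agent.UThreeGen.MatGroup
open Cfsg.Agent.HKS.EndU (tor tmat tor_val tor_mem act tor_emb ci ci_val wel_tor exists_tor tor_mem_center sne tor_conj)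

variable {F : Type*} [Field F] [Fintype F] {q : ℕ} {σ : F →+* F} [hσ : Fact (∀ x, σ (σ x) = x)]
  {M : Type u} [Group M] {π : SUG σ →* M}

/-- the kernel of the torus -/
theorem ker_tor_three (E : Mod q π) {l : Fˣ} (h : π (tor σ l) = 1) : l ^ 3 = 1 := by
  obtain ⟨x, hx⟩ := E.exists_ne
  have h1 : π (tor σ l) * π (emb σ x) * (π (tor σ l))⁻¹ = π (emb σ x) := by rw [h]; simp
  rw [tor_conj] at h1
  have h2 := E.emb_inj h1
  have h3 : (l : F) ^ 2 / σ (l : F) * x.a = x.a := congrArg HG.a h2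
  have h4 : (l : F) ^ 2 / σ (l : F) = 1 := mul_right_cancel₀ hx (h3.trans (one_mul _).symm)
  have h5 : (l : F) ^ 2 = σ (l : F) := by
    have := sne (σ := σ) l
    field_simp at h4
    exact h4
  have h6 := E.ker_tor h
  have h7 : (l : F) ^ (q + 1) = 1 := by
    rw [← Units.val_pow_eq_pow_val, h6, Units.val_one]
  rw [pow_succ', ← E.pow] at h7
  apply Units.ext
  rw [Units.val_pow_eq_pow_val, Units.val_one, pow_succ', h5, h7]

/-- the order of the torus -/
theorem dvd_order (E : Mod q π) {l₀ : Fˣ} (hord : orderOf l₀ = (q - 1) * (q + 1)) :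
    (q - 1) * (q + 1) ∣ orderOf (π (tor σ l₀)) * Nat.gcd 3 (q + 1) := by
  have h1 : π (tor σ (l₀ ^ orderOf (π (tor σ l₀)))) = 1 := by
    rw [map_pow, map_pow, pow_orderOf_eq_one]
  have h2 := E.ker_tor h1
  have h3 := ker_tor_three E h1
  have h4 := (pow_gcd_eq_one (m := 3) (n := q + 1)).2 ⟨h3, h2⟩
  rw [← pow_mul] at h4
  have h5 := orderOf_dvd_of_pow_eq_one h4
  rwa [hord] at h5

/-- the arithmetic of the representatives -/
theorem exists_rep {q n : ℕ} (hq : q = 4 ∨ q = 8 ∨ q = 16 ∨ 32 ≤ q) (hn : (q - 1) * (q + 1) ∣ n * Nat.gcd 3 (q + 1)) :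
    ∃ j : Fin 5 → ℕ, (∀ a b, a ≠ b → ¬ j a ≡ j b [MOD n]) ∧ ∀ a b, ¬ n ∣ j a * q + j b := by
  rcases hq with rfl | rfl | rfl | hq
  · have h1 : 15 ∣ n := by simpa using hn
    refine ⟨![1, 2, 4, 5, 8], ?_, ?_⟩
    · intro a b hab h
      have h2 := h.of_dvd h1
      revert hab h2
      unfold Nat.ModEq
      fin_cases a <;> fin_cases b <;> simp
    · intro a b h
      have h2 := h1.trans h
      revert h2
      fin_cases a <;> fin_cases b <;> decide
  · have h1 : 21 ∣ n := by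
      have h2 : 63 ∣ n * 3 := by simpa using hn
      omega
    refine ⟨![1, 2, 3, 4, 6], ?_, ?_⟩
    · intro a b hab h
      have h2 := h.of_dvd h1
      revert hab h2
      unfold Nat.ModEq
      fin_cases a <;> fin_cases b <;> simp
    · intro a b h
      have h2 := h1.trans h
      revert h2
      fin_cases a <;> fin_cases b <;> decide
  · have h1 : 255 ∣ n := by simpa using hn
    refine ⟨![1, 2, 3, 4, 5], ?_, ?_⟩
    · intro a b hab h
      have h2 := h.of_dvd h1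
      revert hab h2
      unfold Nat.ModEq
      fin_cases a <;> fin_cases b <;> simp
    · intro a b h
      have h2 := h1.trans h
      revert h2
      fin_cases a <;> fin_cases b <;> decide
  · rcases Nat.eq_zero_or_pos n with rfl | hn0
    · refine ⟨fun i => i + 1, fun a b hab h => ?_, fun a b h => ?_⟩
      · have h1 : (a : ℕ) + 1 = b + 1 := by simpa [Nat.modEq_zero_iff] using h
        exact hab (Fin.ext (by omega))
      · rw [zero_dvd_iff] at h
        exact Nat.succ_ne_zero _ (Nat.eq_zero_of_add_eq_zero_left h)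
    have h3 : Nat.gcd 3 (q + 1) ≤ 3 := Nat.gcd_le_left _ (by norm_num)
    have h4 : (q - 1) * (q + 1) ≤ n * 3 :=
      (Nat.le_of_dvd (Nat.mul_pos hn0 (Nat.gcd_pos_of_pos_left _ (by norm_num))) hn).trans
        (Nat.mul_le_mul_left _ h3)
    have h5 : 31 * (q + 1) ≤ n * 3 := (Nat.mul_le_mul_right _ (by omega)).trans h4
    refine ⟨fun i => i + 1, fun a b hab h => ?_, fun a b h => ?_⟩
    · have ha := a.2
      have hb := b.2
      have h' : (a : ℕ) + 1 ≡ (b : ℕ) + 1 [MOD n] := h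
      have := Nat.ModEq.eq_of_lt_of_lt h' (by omega) (by omega)
      exact hab (Fin.ext (by omega))
    · have ha := a.2
      have hb := b.2
      have h' : n ∣ ((a : ℕ) + 1) * q + ((b : ℕ) + 1) := h
      have h6 := Nat.le_of_dvd (by omega) h'
      have h7 : ((a : ℕ) + 1) * q ≤ 5 * q := Nat.mul_le_mul_right _ (by omega)
      omega

/-- **`PSU₃(q)`**, the model -/
theorem Mod.good5 [Finite M] (E : Mod q π) (hq : q = 4 ∨ q = 8 ∨ q = 16 ∨ 32 ≤ q) (h2 : (2 : F) = 0)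
    (hev : Even q) (hT : H601.OddDeg.TwoC M) : Good5 M := by
  classical
  have hq1 : 1 < q := by omega
  have : Fact (Nat.Prime 2) := ⟨Nat.prime_two⟩
  have : CharP F 2 := CharTwo.of_one_ne_zero_of_two_eq_zero one_ne_zero h2
  obtain ⟨P₀, hP₀⟩ := E.exists_syl (r := 2) hq1
  have hUp : IsPGroup 2 ((emb σ).range.map π) := by
    rw [← hP₀]
    exact P₀.isPGroup'
  obtain ⟨l₀, hl₀, hord, m, hm, hmq⟩ := E.exists_generator hq1
  set t₀ := π (tor σ l₀) with ht₀
  set n := orderOf t₀ with hn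
  have hn0 : 0 < n := orderOf_pos t₀
  have hnodd : Odd n := by
    have h1 : n ∣ orderOf l₀ := orderOf_map_dvd (π.comp (tor σ)) l₀
    rw [hord] at h1
    refine Odd.of_dvd_nat ?_ h1
    exact (Nat.Even.sub_odd hq1.le hev odd_one).mul (hev.add_one)
  -- the action of `w`
  have hw : π (wel σ) * t₀ * (π (wel σ))⁻¹ = t₀ ^ ((n - 1) * q) := by
    have h1 : π (wel σ) * t₀ * (π (wel σ))⁻¹ = π (tor σ (ci σ l₀)) := by
      rw [ht₀, ← map_inv, ← map_mul, ← map_mul, wel_inv, wel_tor]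
    have h3 : ci σ l₀ = (l₀ ^ q)⁻¹ := by
      apply Units.ext
      rw [ci_val, Units.val_inv_eq_inv_val, Units.val_pow_eq_pow_val, E.pow]
    have h4 : t₀ ^ ((n - 1) * q) * t₀ ^ q = 1 := by
      rw [← pow_add]
      have h5 : (n - 1) * q + q = n * q := by
        obtain ⟨k, hk⟩ : ∃ k, n = k + 1 := ⟨n - 1, by omega⟩
        rw [hk, Nat.add_sub_cancel]
        ring
      rw [h5, pow_mul, hn, pow_orderOf_eq_one, one_pow]
    rw [h1, h3, map_inv, map_inv, map_pow, map_pow, ← ht₀]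
    exact (eq_inv_of_mul_eq_one_left h4).symm
  have hgen := gen_of_two E.data (t₀ := t₀) (isOfFinOrder_of_finite _) (by
    intro t ht htw
    obtain ⟨l, rfl⟩ := E.mem_two_iff ht htw
    obtain ⟨j, rfl⟩ := Subgroup.mem_zpowers_iff.1 (hl₀ l)
    exact Subgroup.mem_zpowers_iff.2 ⟨j, (map_zpow (π.comp (tor σ)) l₀ j).symm⟩)
  obtain ⟨j, hj1, hj2⟩ := exists_rep hq (dvd_order E hord)
  obtain ⟨χ, hinj, hχ⟩ := exists_family E.data hUp (E.unip_ne hq1) (two_mem l₀).1 hw hgen rfl hnodd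
    (ι := Fin 5) (j := j) (fun a b hab h => hj1 a b hab ((ZMod.natCast_eq_natCast_iff _ _ _).1 h)) (by
      intro a b h
      rw [← Nat.cast_mul, ZMod.natCast_eq_natCast_iff] at h
      apply hj2 a b
      have h3 : j a * ((n - 1) * q) + j a * q = j a * q * n := by
        obtain ⟨k, hk⟩ : ∃ k, n = k + 1 := ⟨n - 1, by omega⟩
        rw [hk, Nat.add_sub_cancel]
        ring
      have h4 := h.add_right (j a * q)
      rw [h3] at h4
      rw [add_comm]
      exact (Nat.modEq_zero_iff_dvd).1 (h4.symm.trans ((Nat.modEq_zero_iff_dvd).2 (dvd_mul_left _ _))))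
  exact ⟨χ, hinj, fun i => (hχ i).2.1.good (hχ i).1 hT⟩

/-- **`PSU₃(q)`, `q > 2` even** -/
theorem good5_psu3 {F : Type} [Field F] [Fintype F] [CharP F 2] {q : ℕ} (hF : Fintype.card F = q ^ 2) (hq : 2 < q)
    [IsSimpleGroup (PSU 3 F q)] : Good5 (PSU 3 F q) := by
  have hT : H601.OddDeg.TwoC (PSU 3 F q) := H742.TwoC.twoC_charTwo (by
    unfold IsLieTypeChar
    exact Or.inr (Or.inr (Or.inl ⟨F, inferInstance, inferInstance, inferInstance, 3, q, hF, le_rfl,
      by omega, ⟨MulEquiv.refl _⟩⟩)))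
  obtain ⟨σ, hσ, π, E⟩ := exists_mod F hF (by omega)
  obtain ⟨n, -, hn⟩ := FiniteField.card F 2
  have h1 : q ∣ 2 ^ (n : ℕ) := by rw [← hn, hF]; exact dvd_pow_self q (by norm_num)
  obtain ⟨k, -, hk⟩ := (Nat.dvd_prime_pow Nat.prime_two).1 h1
  have hk2 : 2 ≤ k := by
    by_contra h
    have : 2 ^ k ≤ 2 ^ 1 := Nat.pow_le_pow_right (by norm_num) (by omega)
    omega
  refine Mod.good5 E ?_ (CharP.cast_eq_zero F 2) ?_ hT
  · rw [hk]
    rcases Nat.lt_or_ge k 5 with h | h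
    · interval_cases k <;> simp
    · exact Or.inr (Or.inr (Or.inr ((by norm_num : 32 = 2 ^ 5) ▸ Nat.pow_le_pow_right (by norm_num) h)))
  · rw [hk]
    exact (Nat.even_pow.2 ⟨even_two, by omega⟩)

end psu

end Cfsg.Agent.H612.K4
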