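import Cfsg.Agent.H967.K4.Sig
import Cfsg.Agent.H740.K4.Four
import Cfsg.Agent.LieRecognition.RankOneAbstract
import Cfsg.Agent.CharactersDeep.MackeyLinear

/-!
# Induced characters of odd degree of rank one groups in characteristic two (helper612, TEAM K4)

`Data B U w` a split BN-pair of rank one, `U` a 2-group, `B = U ⟨t₀⟩`, `t₀` of odd order `n`, `w t₀ w⁻¹ = t₀ ^ e`.

* `exists_lin` : the linear characters `λ_j` of `B`, `λ_j (t₀) = ζ ^ j`;
* `exists_family` : the characters induced from `λ_j`, for `j` in a set of representatives of the orbits `j ~ e j`.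
-/

set_option autoImplicit false

open scoped ComplexConjugate
open Cfsg

namespace Cfsg.Agent.H612.K4

open Cfsg.Agent.OddOrderCharacters.Clifford Cfsg.Agent.Characters Cfsg.Agent.LieRecognition.RankOneAbstract
open Cfsg.Agent.H601.K4 Cfsg.Agent.H967.K4 Cfsg.Agent.CharactersDeep.MackeyLinear

universe u

section mackey

variable {G : Type u} [Group G]

/-- the twist of two linear characters vanishes if the second differs from a conjugate of the first -/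
theorem twist_eq_zero' [Finite G] (T : Subgroup G) [Fintype T] (f g : T →* ℂˣ) (x : G)
    (h : ∃ (t : T) (hx : x⁻¹ * t * x ∈ T), f t ≠ g ⟨x⁻¹ * t * x, hx⟩) :
    twist T (fun t => (f t : ℂ)) (fun t => (g t : ℂ)) x = 0 := by
  classical
  obtain ⟨t₀, ht₀, hne⟩ := h
  have hT : Finite T := inferInstance
  rw [twist_def]
  set F : T → ℂ := fun t => (f t : ℂ) * conj (extendByZero T (fun t => (g t : ℂ)) (x⁻¹ * t * x))
    with hF
  set c : ℂ := (f t₀ : ℂ) * conj (g ⟨x⁻¹ * t₀ * x, ht₀⟩ : ℂ) with hc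
  have hmul : ∀ t : T, F (t₀ * t) = c * F t := by
    intro t
    simp only [hF, hc]
    by_cases ht : x⁻¹ * (t : G) * x ∈ T
    · have hprod : x⁻¹ * ((t₀ * t : T) : G) * x ∈ T := by
        have : x⁻¹ * ((t₀ * t : T) : G) * x = (x⁻¹ * (t₀ : G) * x) * (x⁻¹ * (t : G) * x) := by
          simp [mul_assoc]
        rw [this]
        exact T.mul_mem ht₀ ht
      rw [ext_apply_mem T _ _ hprod, ext_apply_mem T _ _ ht]
      have hf : g ⟨x⁻¹ * ((t₀ * t : T) : G) * x, hprod⟩ =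
          g ⟨x⁻¹ * (t₀ : G) * x, ht₀⟩ * g ⟨x⁻¹ * (t : G) * x, ht⟩ := by
        rw [← map_mul]
        congr 1
        apply Subtype.ext
        simp [mul_assoc]
      rw [hf, map_mul, Units.val_mul, Units.val_mul, map_mul]
      ring
    · have hprod : x⁻¹ * ((t₀ * t : T) : G) * x ∉ T := by
        intro h
        apply ht
        have : x⁻¹ * (t : G) * x = (x⁻¹ * (t₀ : G) * x)⁻¹ * (x⁻¹ * ((t₀ * t : T) : G) * x) := by
          simp [mul_assoc]
        rw [this]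
        exact T.mul_mem (T.inv_mem ht₀) h
      rw [ext_apply_not_mem T _ _ hprod, ext_apply_not_mem T _ _ ht, map_zero, mul_zero, mul_zero,
        mul_zero]
  have hsum : ∑ t : T, F t = c * ∑ t : T, F t := by
    calc ∑ t : T, F t = ∑ t : T, F (t₀ * t) :=
          (Fintype.sum_equiv (Equiv.mulLeft t₀) _ _ (fun t => rfl)).symm
      _ = ∑ t : T, c * F t := Finset.sum_congr rfl fun t _ => hmul t
      _ = c * ∑ t : T, F t := by rw [Finset.mul_sum]
  have hc1 : c ≠ 1 := by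
    intro h
    apply hne
    apply Units.ext
    have h2 := mul_conj_hom g ⟨x⁻¹ * t₀ * x, ht₀⟩
    have h3 : (conj (g ⟨x⁻¹ * t₀ * x, ht₀⟩ : ℂ)) ≠ 0 := by
      intro h0
      rw [h0, mul_zero] at h2
      exact zero_ne_one h2
    apply mul_right_cancel₀ h3
    rw [h2]
    exact h
  have h4 : (1 - c) * ∑ t : T, F t = 0 := by
    rw [sub_mul, one_mul, ← hsum, sub_self]
  rcases mul_eq_zero.mp h4 with h5 | h5
  · exact absurd (sub_eq_zero.mp h5).symm hc1
  · exact h5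

/-- two linear characters which are not conjugate induce to different characters -/
theorem indFun_ne [Fintype G] (T : Subgroup G) (f g : T →* ℂˣ)
    (hirr : IsIrrCharacter G (indFun T (fun t => (f t : ℂ))))
    (h : ∀ x : G, ∃ (t : T) (hx : x⁻¹ * t * x ∈ T), f t ≠ g ⟨x⁻¹ * t * x, hx⟩) :
    indFun T (fun t => (f t : ℂ)) ≠ indFun T (fun t => (g t : ℂ)) := by
  classical
  have : Fintype T := Fintype.ofFinite T
  intro heq
  have h1 : classInner (indFun T (fun t => (f t : ℂ))) (indFun T (fun t => (g t : ℂ))) = 0 := by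
    rw [classInner_indFun_indFun, Finset.sum_eq_zero fun x _ => twist_eq_zero' T f g x (h x), mul_zero, mul_zero]
  rw [← heq, Core.classInner_irr_self hirr] at h1
  exact one_ne_zero h1

end mackey

section rank

variable {G : Type u} [Group G] {B U : Subgroup G} {w : G}

/-- **the linear characters of the Borel subgroup** -/
theorem exists_lin (D : Data B U w) {t₀ : G} (ht : t₀ ∈ B) (hgen : ∀ b ∈ B, ∃ u ∈ U, ∃ k : ℕ, b = u * t₀ ^ k)
    (hint : ∀ k : ℕ, t₀ ^ k ∈ U → t₀ ^ k = 1) {ζ : ℂˣ} (hζ : ζ ^ orderOf t₀ = 1) :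
    ∃ f : B →* ℂˣ, f ⟨t₀, ht⟩ = ζ ∧ ∀ (u : G) (hu : u ∈ U), f ⟨u, D.le hu⟩ = 1 := by
  classical
  let K : Subgroup B := U.subgroupOf B
  have hK : K.Normal := by
    constructor
    intro n hn g
    rw [Subgroup.mem_subgroupOf] at hn ⊢
    exact D.norm g g.2 n hn
  set a : B ⧸ K := QuotientGroup.mk' K ⟨t₀, ht⟩ with ha
  have hg : ∀ x : B ⧸ K, x ∈ Subgroup.zpowers a := by
    intro x
    obtain ⟨b, rfl⟩ := QuotientGroup.mk'_surjective K x
    obtain ⟨u, hu, k, hb⟩ := hgen b b.2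
    refine ⟨k, ?_⟩
    simp only [zpow_natCast]
    rw [ha, ← map_pow, QuotientGroup.mk'_eq_mk']
    refine ⟨⟨(t₀ ^ k)⁻¹ * u * t₀ ^ k, ?_⟩, ?_, ?_⟩
    · exact B.mul_mem (B.mul_mem (B.inv_mem (B.pow_mem ht k)) (D.le hu)) (B.pow_mem ht k)
    · rw [Subgroup.mem_subgroupOf]
      have := D.norm _ (B.inv_mem (B.pow_mem ht k)) u hu
      rwa [inv_inv] at this
    · apply Subtype.ext
      change t₀ ^ k * ((t₀ ^ k)⁻¹ * u * t₀ ^ k) = b
      rw [hb]
      group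
  have hord : orderOf ζ ∣ orderOf a := by
    refine orderOf_dvd_of_pow_eq_one ?_
    have h1 : a ^ orderOf a = 1 := pow_orderOf_eq_one a
    rw [ha, ← map_pow, QuotientGroup.mk'_apply, QuotientGroup.eq_one_iff, Subgroup.mem_subgroupOf] at h1
    have h2 := hint _ h1
    obtain ⟨c, hc⟩ := orderOf_dvd_of_pow_eq_one h2
    rw [ha, hc, pow_mul, hζ, one_pow]
  refine ⟨(monoidHomOfForallMemZpowers hg hord).comp (QuotientGroup.mk' K), ?_, ?_⟩
  · change monoidHomOfForallMemZpowers hg hord a = ζ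
    rw [monoidHomOfForallMemZpowers_apply_gen]
  · intro u hu
    have h1 : QuotientGroup.mk' K ⟨u, D.le hu⟩ = 1 := by
      rw [QuotientGroup.mk'_apply, QuotientGroup.eq_one_iff, Subgroup.mem_subgroupOf]
      exact hu
    rw [MonoidHom.comp_apply, h1, map_one]

/-- **the induced characters** -/
theorem exists_family [Finite G] (D : Data B U w) (hU : IsPGroup 2 U) (hU1 : U ≠ ⊥) {t₀ : G} (ht : t₀ ∈ B) {e : ℕ}
    (hw : w * t₀ * w⁻¹ = t₀ ^ e) (hgen : ∀ b ∈ B, ∃ u ∈ U, ∃ k : ℕ, b = u * t₀ ^ k) {n : ℕ} (hn : orderOf t₀ = n)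
    (hodd : Odd n) {ι : Type*} {j : ι → ℕ} (hj : ∀ a b, a ≠ b → (j a : ZMod n) ≠ j b)
    (hje : ∀ a b, (j a : ZMod n) * e ≠ j b) :
    ∃ χ : ι → G → ℂ, Function.Injective χ ∧ ∀ i, OddIrr (χ i) ∧ SF (χ i) ∧
      (∀ x : G, (∀ g : G, g⁻¹ * x * g ∉ B) → χ i x = 0) ∧ χ i 1 = B.index := by
  classical
  have := Fintype.ofFinite G
  have hn0 : n ≠ 0 := by
    rintro rfl
    exact absurd hodd (by decide)
  have : NeZero n := ⟨hn0⟩
  have hint : ∀ k : ℕ, t₀ ^ k ∈ U → t₀ ^ k = 1 := by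
    intro k hk
    obtain ⟨i, hi⟩ := hU ⟨t₀ ^ k, hk⟩
    have h1 : (t₀ ^ k) ^ 2 ^ i = 1 := congrArg Subtype.val hi
    have h2 : orderOf (t₀ ^ k) ∣ 2 ^ i := orderOf_dvd_of_pow_eq_one h1
    have h3 : orderOf (t₀ ^ k) ∣ n := by rw [← hn]; exact orderOf_pow_dvd k
    have h4 : Nat.Coprime (2 ^ i) n := Nat.Coprime.pow_left _ (Nat.coprime_two_left.2 hodd)
    exact orderOf_eq_one_iff.1 (Nat.eq_one_of_dvd_coprimes h4 h2 h3)
  -- a primitive root
  obtain ⟨ζ, hζ⟩ := HasEnoughRootsOfUnity.exists_primitiveRoot ℂ n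
  obtain ⟨ξ, hξ⟩ : ∃ ξ : ℂˣ, (ξ : ℂ) = ζ := ⟨(hζ.isUnit hn0).unit, rfl⟩
  have hξn : IsPrimitiveRoot ξ n := by
    rw [← IsPrimitiveRoot.coe_units_iff, hξ]
    exact hζ
  have hξn' : orderOf ξ = n := hξn.eq_orderOf.symm
  obtain ⟨f, hf, hf1⟩ := exists_lin D ht hgen hint (ζ := ξ) (by rw [hn]; exact hξn.pow_eq_one)
  -- the powers of `f`
  let g : ι → B →* ℂˣ := fun i => f ^ j i
  have hg : ∀ i, g i ⟨t₀, ht⟩ = ξ ^ j i := fun i => by
    change (f ^ j i) _ = _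
    rw [MonoidHom.pow_apply, hf]
  have hpow : ∀ k l : ℕ, ξ ^ k = ξ ^ l → (k : ZMod n) = l := by
    intro k l h
    rw [pow_eq_pow_iff_modEq, hξn'] at h
    exact (ZMod.natCast_eq_natCast_iff _ _ _).2 h
  have hwB : w * t₀ * w⁻¹ ∈ B := by rw [hw]; exact B.pow_mem ht e
  have hgw : ∀ i, g i ⟨w * t₀ * w⁻¹, hwB⟩ = ξ ^ (j i * e) := by
    intro i
    have h1 : (⟨w * t₀ * w⁻¹, hwB⟩ : B) = ⟨t₀, ht⟩ ^ e := Subtype.ext hw
    rw [h1, map_pow, hg, pow_mul]
  -- the elements outside `B`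
  have hout : ∀ a b : ι, ∀ x : G, x ∉ B → ∃ (t : B) (hx : x⁻¹ * t * x ∈ B), g a t ≠ g b ⟨x⁻¹ * t * x, hx⟩ := by
    intro a b x hx
    obtain ⟨s, hs, hsx⟩ := D.bruhat x hx
    set k := (s * w)⁻¹ * x with hk
    have hxe : x = s * w * k := by rw [hk]; group
    have hsH : s ∈ B := D.le hs
    refine ⟨⟨s, hsH⟩ * ⟨w * t₀ * w⁻¹, hwB⟩ * ⟨s, hsH⟩⁻¹, ?_, ?_⟩
    · have h1 : x⁻¹ * ((⟨s, hsH⟩ * ⟨w * t₀ * w⁻¹, hwB⟩ * ⟨s, hsH⟩⁻¹ : B) : G) * x =
          k⁻¹ * t₀ * k := by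
        rw [hxe]
        simp only [Subgroup.coe_mul, InvMemClass.coe_inv]
        group
      rw [h1]
      exact B.mul_mem (B.mul_mem (B.inv_mem hsx) ht) hsx
    · have h1 : g a (⟨s, hsH⟩ * ⟨w * t₀ * w⁻¹, hwB⟩ * ⟨s, hsH⟩⁻¹) = g a ⟨w * t₀ * w⁻¹, hwB⟩ := by
        rw [map_mul, map_mul, map_inv, mul_comm (g a ⟨s, hsH⟩), mul_inv_cancel_right]
      rw [h1]
      have h2 : ∀ (hh : x⁻¹ * ((⟨s, hsH⟩ * ⟨w * t₀ * w⁻¹, hwB⟩ * ⟨s, hsH⟩⁻¹ : B) : G) * x ∈ B),
          (⟨_, hh⟩ : B) = ⟨k, hsx⟩⁻¹ * ⟨t₀, ht⟩ * ⟨k, hsx⟩ := by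
        intro hh
        apply Subtype.ext
        simp only [Subgroup.coe_mul, InvMemClass.coe_inv]
        rw [hxe]
        group
      rw [h2, map_mul, map_mul, map_inv, mul_comm (g b ⟨k, hsx⟩)⁻¹, inv_mul_cancel_right, hgw, hg]
      intro h
      have h3 := hpow _ _ h
      rw [Nat.cast_mul] at h3
      exact hje a b h3
  have hirr : ∀ i, IsIrrCharacter G (indFun B (fun t => (g i t : ℂ))) := fun i =>
    isIrrCharacter_indFun B (g i) fun x hx => hout i i x hx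
  have hdeg : ∀ i, indFun B (fun t => (g i t : ℂ)) 1 = B.index := by
    intro i
    rw [indFun_apply]
    have h1 : ∀ x : G, extendByZero B (fun t => (g i t : ℂ)) (x⁻¹ * 1 * x) = 1 := by
      intro x
      have h2 : x⁻¹ * 1 * x = 1 := by group
      rw [h2, ext_apply_mem B _ _ B.one_mem]
      have h3 : (⟨1, B.one_mem⟩ : B) = 1 := rfl
      rw [h3, map_one, Units.val_one]
    rw [Finset.sum_congr rfl fun x _ => h1 x, Finset.sum_const, Finset.card_univ, nsmul_eq_mul, mul_one,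
      ← Nat.card_eq_fintype_card, ← B.index_mul_card, Nat.cast_mul]
    have h2 : (Nat.card B : ℂ) ≠ 0 := by exact_mod_cast Nat.card_pos.ne'
    field_simp
  have hidx : Odd B.index := by
    have := D.index
    rw [this]
    have h1 : Even (Nat.card U) := by
      obtain ⟨k, hk⟩ := IsPGroup.iff_card.1 hU
      rw [hk]
      refine (Nat.even_pow.2 ⟨even_two, ?_⟩)
      rintro rfl
      rw [pow_zero] at hk
      exact hU1 (Subgroup.eq_bot_of_card_eq _ hk)
    exact h1.add_one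
  refine ⟨fun i => indFun B (fun t => (g i t : ℂ)), ?_, fun i => ⟨⟨hirr i, ?_⟩, ?_, ?_, hdeg i⟩⟩
  · intro a b hab
    by_contra hne
    refine indFun_ne B (g a) (g b) (hirr a) (fun x => ?_) hab
    by_cases hx : x ∈ B
    · refine ⟨⟨t₀, ht⟩, B.mul_mem (B.mul_mem (B.inv_mem hx) ht) hx, ?_⟩
      have h1 : (⟨x⁻¹ * ((⟨t₀, ht⟩ : B) : G) * x, B.mul_mem (B.mul_mem (B.inv_mem hx) ht) hx⟩ : B) =
          ⟨x, hx⟩⁻¹ * ⟨t₀, ht⟩ * ⟨x, hx⟩ := rfl
      rw [h1, map_mul, map_mul, map_inv, mul_comm (g b ⟨x, hx⟩)⁻¹, inv_mul_cancel_right, hg, hg]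
      intro h
      exact hj a b hne (hpow _ _ h)
    · exact hout a b x hx
  · rw [Cfsg.Agent.Blocks.Basic.charDegree_of_eq (hdeg i)]
    exact fun h => (Nat.not_even_iff_odd.2 hidx) (even_iff_two_dvd.2 h)
  · refine SF.ind ?_
    -- the 2-elements of `B` are in `U`
    intro u s _ hu _
    have h1 : g i u = 1 := by
      obtain ⟨k, hk⟩ := hu
      obtain ⟨v, hv, l, hl⟩ := hgen u u.2
      have h2 : g i u = ξ ^ (j i * l) := by
        have h3 : u = ⟨v, D.le hv⟩ * ⟨t₀, ht⟩ ^ l := Subtype.ext hl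
        have h4 : g i ⟨v, D.le hv⟩ = 1 := by
          change (f ^ j i) _ = 1
          rw [MonoidHom.pow_apply, hf1 v hv, one_pow]
        rw [h3, map_mul, h4, one_mul, map_pow, hg, ← pow_mul]
      have h3 : orderOf (g i u) ∣ n := by
        refine orderOf_dvd_of_pow_eq_one ?_
        rw [h2, ← pow_mul, mul_comm, pow_mul, hξn.pow_eq_one, one_pow]
      have h4 : orderOf (g i u) ∣ 2 ^ k := by rw [← hk]; exact orderOf_map_dvd _ u
      have h5 : Nat.Coprime (2 ^ k) n := Nat.Coprime.pow_left _ (Nat.coprime_two_left.2 hodd)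
      exact orderOf_eq_one_iff.1 (Nat.eq_one_of_dvd_coprimes h5 h4 h3)
    change ((g i (u ^ 3 * s) : ℂˣ) : ℂ) = (g i (u * s) : ℂˣ)
    rw [map_mul, map_mul, map_pow, h1, one_pow]
  · intro x hx
    change indFun B (fun t => (g i t : ℂ)) x = 0
    rw [indFun_apply]
    rw [Finset.sum_eq_zero fun y _ => ext_apply_not_mem B _ _ (hx y), mul_zero]

end rank

end Cfsg.Agent.H612.K4
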